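import Groth.Agent.L22.AffineDescent
import Groth.Agent.L05.TameRoot.RootRing
import Mathlib.AlgebraicGeometry.Geometrically.Reduced
import Mathlib.AlgebraicGeometry.Geometrically.Irreducible
import Mathlib.AlgebraicGeometry.Morphisms.Flat
import Mathlib.Algebra.Category.Ring.Constructions
import Mathlib.FieldTheory.PurelyInseparable.Basic

/-!
Separability properties of the field of global sections of a geometrically reduced or geometrically
irreducible qcqs scheme.
-/

set_option autoImplicit false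
universe u

open CategoryTheory CategoryTheory.Limits AlgebraicGeometry Polynomial
open scoped TensorProduct

namespace Groth.L22.ProperSections

theorem isPushout_sections (k K : Type u) [Field k] [Field K] [Algebra k K] {X : Scheme.{u}}
    (iX : X ⟶ Spec (CommRingCat.of k)) [QuasiCompact iX] [QuasiSeparated iX] :
    letI := (iX.appTop.hom.comp (Scheme.ΓSpecIso (CommRingCat.of k)).inv.hom).toAlgebra
    IsPushout (CommRingCat.ofHom (algebraMap k K)) (CommRingCat.ofHom (algebraMap k Γ(X, ⊤)))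
      ((Scheme.ΓSpecIso (CommRingCat.of K)).inv ≫
        (pullback.snd iX (Spec.map (CommRingCat.ofHom (algebraMap k K)))).appTop)
      (pullback.fst iX (Spec.map (CommRingCat.ofHom (algebraMap k K)))).appTop := by
  letI := (iX.appTop.hom.comp (Scheme.ΓSpecIso (CommRingCat.of k)).inv.hom).toAlgebra
  let f : Spec (CommRingCat.of K) ⟶ Spec (CommRingCat.of k) := Spec.map (CommRingCat.ofHom (algebraMap k K))
  haveI : Flat f := by
    rw [Flat.SpecMap_iff, CommRingCat.hom_ofHom, RingHom.flat_algebraMap_iff]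
    infer_instance
  haveI : CompactSpace X := QuasiCompact.compactSpace_of_compactSpace iX
  haveI : QuasiSeparatedSpace X := quasiSeparatedSpace_of_quasiSeparated iX
  refine (Groth.L22.AffDesc.isPushout_appTop (IsPullback.of_hasPullback iX f)).flip.of_iso
    (Scheme.ΓSpecIso (CommRingCat.of k)) (Scheme.ΓSpecIso (CommRingCat.of K)) (Iso.refl _) (Iso.refl _)
    ?_ ?_ ?_ ?_
  · simp [f]
  · change iX.appTop ≫ 𝟙 _ = (Scheme.ΓSpecIso (CommRingCat.of k)).hom ≫
      ((Scheme.ΓSpecIso (CommRingCat.of k)).inv ≫ iX.appTop)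
    rw [Category.comp_id, Iso.hom_inv_id_assoc]
  · simp [f]
  · simp [f]

theorem isGeometricallyReduced_sections (k : Type u) [Field k] {X : Scheme.{u}}
    (iX : X ⟶ Spec (CommRingCat.of k)) [QuasiCompact iX] [QuasiSeparated iX] [GeometricallyReduced iX] :
    letI := (iX.appTop.hom.comp (Scheme.ΓSpecIso (CommRingCat.of k)).inv.hom).toAlgebra
    Algebra.IsGeometricallyReduced k Γ(X, ⊤) := by
  letI := (iX.appTop.hom.comp (Scheme.ΓSpecIso (CommRingCat.of k)).inv.hom).toAlgebra
  rw [Algebra.isGeometricallyReduced_field_iff]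
  let K := AlgebraicClosure k
  let f : Spec (CommRingCat.of K) ⟶ Spec (CommRingCat.of k) := Spec.map (CommRingCat.ofHom (algebraMap k K))
  haveI : IsReduced (pullback iX f) :=
    GeometricallyReduced.geometrically_isReduced (f := iX) _ _ _ (IsPullback.of_hasPullback iX f)
  haveI : _root_.IsReduced Γ(pullback iX f, ⊤) := inferInstance
  let e := ((CommRingCat.isPushout_tensorProduct k K Γ(X, ⊤)).isoIsPushout _ _
    (isPushout_sections k K iX)).commRingCatIsoToRingEquiv
  exact isReduced_of_injective e.toRingHom e.injective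

theorem isPurelyInseparable_sections (k : Type u) [Field k] {X : Scheme.{u}}
    (iX : X ⟶ Spec (CommRingCat.of k)) [QuasiCompact iX] [QuasiSeparated iX] [GeometricallyIrreducible iX]
    (hF : IsField Γ(X, ⊤)) :
    letI := (iX.appTop.hom.comp (Scheme.ΓSpecIso (CommRingCat.of k)).inv.hom).toAlgebra
    Algebra.IsAlgebraic k Γ(X, ⊤) → IsPurelyInseparable k Γ(X, ⊤) := by
  letI := (iX.appTop.hom.comp (Scheme.ΓSpecIso (CommRingCat.of k)).inv.hom).toAlgebra
  intro halg
  letI := hF.toField
  let K := AlgebraicClosure k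
  rw [isPurelyInseparable_iff_subsingleton_emb]
  suffices h : Subsingleton (Γ(X, ⊤) →ₐ[k] K) from
    (Field.embEquivOfIsAlgClosed k Γ(X, ⊤) K).subsingleton
  refine ⟨fun φ ψ => AlgHom.ext fun a => ?_⟩
  let f : Spec (CommRingCat.of K) ⟶ Spec (CommRingCat.of k) := Spec.map (CommRingCat.ofHom (algebraMap k K))
  let Y := pullback iX f
  haveI : IrreducibleSpace Y :=
    GeometricallyIrreducible.geometrically_irreducibleSpace (f := iX) _ _ _ (IsPullback.of_hasPullback iX f)
  haveI : CompactSpace Y := QuasiCompact.compactSpace_of_compactSpace (pullback.snd iX f)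
  have hP := isPushout_sections k K iX
  have hprime : (nilradical Γ(Y, ⊤)).IsPrime := by
    refine ⟨fun h => ?_, fun {x y} hxy => ?_⟩
    · have h1 : IsNilpotent (1 : Γ(Y, ⊤)) := mem_nilradical.mp (h ▸ Submodule.mem_top)
      rw [Scheme.isNilpotent_iff_basicOpen_eq_bot] at h1
      rw [Scheme.basicOpen_of_isUnit _ isUnit_one] at h1
      obtain ⟨p⟩ := (inferInstance : Nonempty Y)
      have hp : p ∈ (⊤ : Y.Opens) := trivial
      rw [h1] at hp
      exact hp
    · simp only [mem_nilradical, Scheme.isNilpotent_iff_basicOpen_eq_bot] at hxy ⊢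
      rw [Scheme.basicOpen_mul] at hxy
      by_contra hne
      push Not at hne
      obtain ⟨z, hz⟩ := nonempty_preirreducible_inter (Y.basicOpen x).2 (Y.basicOpen y).2
        (Set.nonempty_iff_ne_empty.2 fun h => hne.1 (TopologicalSpace.Opens.ext h))
        (Set.nonempty_iff_ne_empty.2 fun h => hne.2 (TopologicalSpace.Opens.ext h))
      exact (hxy.le hz :)
  let cK : K →+* Γ(Y, ⊤) := ((Scheme.ΓSpecIso (CommRingCat.of K)).inv ≫ (pullback.snd iX f).appTop).hom
  let g : Γ(X, ⊤) →+* Γ(Y, ⊤) := (pullback.fst iX f).appTop.hom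
  have hcomm : cK.comp (algebraMap k K) = g.comp (algebraMap k Γ(X, ⊤)) :=
    congrArg CommRingCat.Hom.hom hP.w
  have desc : ∀ θ : Γ(X, ⊤) →ₐ[k] K, ∃ Θ : Γ(Y, ⊤) →+* K, (∀ c, Θ (cK c) = c) ∧ ∀ b, Θ (g b) = θ b := by
    intro θ
    have hw : CommRingCat.ofHom (algebraMap k K) ≫ 𝟙 (CommRingCat.of K) =
        CommRingCat.ofHom (algebraMap k Γ(X, ⊤)) ≫ CommRingCat.ofHom θ.toRingHom := by
      ext c
      exact (θ.commutes c).symm
    exact ⟨(hP.desc (𝟙 _) (CommRingCat.ofHom θ.toRingHom) hw).hom,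
      fun c => congr(($(hP.inl_desc (𝟙 _) (CommRingCat.ofHom θ.toRingHom) hw)).hom c),
      fun b => congr(($(hP.inr_desc (𝟙 _) (CommRingCat.ofHom θ.toRingHom) hw)).hom b)⟩
  obtain ⟨Φ, hΦc, hΦg⟩ := desc φ
  obtain ⟨Ψ, hΨc, hΨg⟩ := desc ψ
  have ha : IsIntegral k a := (Algebra.IsAlgebraic.isAlgebraic a).isIntegral
  let q := (minpoly k a).map (algebraMap k K)
  have hroots := Polynomial.Splits.eq_prod_roots_of_monic (IsAlgClosed.splits q) ((minpoly.monic ha).map _)
  have hz : Polynomial.eval₂ cK (g a) q = 0 := by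
    rw [Polynomial.eval₂_map, hcomm, ← Polynomial.hom_eval₂, ← Polynomial.aeval_def, minpoly.aeval, map_zero]
  rw [hroots, ← Polynomial.coe_eval₂RingHom, map_multiset_prod, Multiset.map_map] at hz
  obtain ⟨w, hw, hr⟩ := (hprime.multiset_prod_mem_iff_exists_mem _).mp
    (hz ▸ (nilradical Γ(Y, ⊤)).zero_mem)
  obtain ⟨r, -, rfl⟩ := Multiset.mem_map.mp hw
  simp only [Function.comp_apply, Polynomial.coe_eval₂RingHom, Polynomial.eval₂_sub, Polynomial.eval₂_X,
    Polynomial.eval₂_C, mem_nilradical] at hr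
  have h1 := (hr.map Φ).eq_zero
  have h2 := (hr.map Ψ).eq_zero
  rw [map_sub, hΦc, hΦg, sub_eq_zero] at h1
  rw [map_sub, hΨc, hΨg, sub_eq_zero] at h2
  rw [h1, h2]

end Groth.L22.ProperSections
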